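import Cfsg.Agent.Lib.SpSpec.Elements

/-!
Spectra of powers of `PSp` absorb an elementary abelian 2-factor.
-/

set_option autoImplicit false

namespace Cfsg.Agent.Lib.SpSpec

open Cfsg.Agent.Lib.Classical Cfsg.Agent.Lib.Geometry
open scoped Matrix

variable {F : Type*} [Field F] [Fintype F]

theorem orderOf_dvd_mk {n : ℕ} (hn : 1 ≤ n) (x : Matrix.symplecticGroup (Fin n) F) {m : ℕ}
    (h : ∀ k, x ^ k = 1 ∨ (x ^ k).1 = -1 → m ∣ k) :
    m ∣ orderOf (QuotientGroup.mk x : Cfsg.PSp n F) :=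
  h _ ((mk_pow_eq_one hn x _).1 (pow_orderOf_eq_one _))

/-- The halves of the torus orders. -/
theorem exists_torus_psp {n : ℕ} (hn : 1 ≤ n) (h2 : (2 : F) ≠ 0) :
    (∃ y : Cfsg.PSp n F, (Fintype.card F ^ n - 1) / 2 ∣ orderOf y) ∧
    ∃ y : Cfsg.PSp n F, (Fintype.card F ^ n + 1) / 2 ∣ orderOf y := by
  have key : ∀ b : Bool, ∀ m, m ∣ (if b then Fintype.card F ^ n - 1 else Fintype.card F ^ n + 1) →
      ∃ y : Cfsg.PSp n F, m / Nat.gcd m 2 ∣ orderOf y := by
    intro b m hm
    obtain ⟨V, _, _, _, B, g, hA, hB, hfin, hg, hord⟩ := exists_torus (F := F) (d := n) (by omega) h2 b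
    obtain ⟨x, hx⟩ := realize B hA hB hfin hg
    refine ⟨QuotientGroup.mk x, orderOf_dvd_mk hn x fun k hk => ?_⟩
    have h : g ^ (k * 2) = 1 := by
      rcases hk with hk | hk
      · rw [pow_mul, (hx k).1.1 hk, one_pow]
      · rw [pow_mul, (hx k).2.1 hk, neg_one_sq]
    have h1 := orderOf_dvd_of_pow_eq_one h
    rw [hord] at h1
    have h3 := Nat.dvd_gcd (hm.trans h1) (Dvd.intro_left k rfl : m ∣ k * m)
    rw [Nat.gcd_mul_left, Nat.gcd_comm] at h3
    rw [Nat.div_dvd_iff_dvd_mul (Nat.gcd_dvd_left m 2) (Nat.gcd_pos_of_pos_right _ two_pos)]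
    rwa [mul_comm]
  have hq : Odd (Fintype.card F ^ n) := by
    refine Odd.pow ?_
    rw [Nat.odd_iff]
    exact FiniteField.odd_card_of_char_ne_two (by
      intro h
      haveI := ringChar.charP F
      exact h2 (by have := CharP.cast_eq_zero F (ringChar F); rwa [h] at this))
  have hpos : 1 ≤ Fintype.card F ^ n := Nat.one_le_pow _ _ Fintype.card_pos
  constructor
  · obtain ⟨y, hy⟩ := key true _ dvd_rfl
    refine ⟨y, ?_⟩
    rw [if_pos rfl] at hy
    rwa [Nat.gcd_eq_right ((Nat.Odd.sub_odd hq odd_one).two_dvd)] at hy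
  · obtain ⟨y, hy⟩ := key false _ dvd_rfl
    refine ⟨y, ?_⟩
    rw [if_neg (by decide)] at hy
    rwa [Nat.gcd_eq_right ((hq.add_odd odd_one).two_dvd)] at hy

omit [Fintype F] in
theorem neg_one_ne_one (h2 : (2 : F) ≠ 0) {U : Type*} [AddCommGroup U] [Module F U] [Nontrivial U] :
    (-1 : Module.End F U) ≠ 1 := by
  intro h
  obtain ⟨a, ha⟩ := exists_ne (0 : U)
  have h' := congrArg (fun q : Module.End F U => q a) h
  simp only [LinearMap.neg_apply, Module.End.one_apply] at h'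
  refine ha ((smul_eq_zero.1 (?_ : (2 : F) • a = 0)).resolve_left h2)
  rw [two_smul]; nth_rewrite 1 [← h']; exact neg_add_cancel a

/-- An element with a semisimple part, a unipotent part and an involution. -/
theorem exists_mixed {p : ℕ} [Fact p.Prime] [CharP F p] (h2 : (2 : F) ≠ 0) {n d e j : ℕ}
    (hd : 0 < d) (hdn : d < n) (he : Odd e) (hpe : Nat.Coprime p e)
    (hdiv : e ∣ Fintype.card F ^ d - 1 ∨ e ∣ Fintype.card F ^ d + 1)
    (hj : p ^ j < 2 * (n - d)) :
    ∃ y : Cfsg.PSp n F, 2 * e * p ^ (j + 1) ∣ orderOf y := by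
  classical
  have hp : p.Prime := Fact.out
  have hp2 : p ≠ 2 := by
    rintro rfl
    exact h2 (by exact_mod_cast CharP.cast_eq_zero F 2)
  obtain ⟨b, hb⟩ : ∃ b : Bool, e ∣ (if b then Fintype.card F ^ d - 1 else Fintype.card F ^ d + 1) := by
    rcases hdiv with h | h
    · exact ⟨true, by simpa using h⟩
    · exact ⟨false, by simpa using h⟩
  obtain ⟨V, _, _, _, B1, g1, hA1, hB1, hfin1, hg1, hord1⟩ := exists_torus (F := F) hd h2 b
  obtain ⟨B2, u, hA2, hB2, hu, i, hi, hordu⟩ := exists_unipotent (F := F) h2 hj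
  have hne : orderOf g1 ≠ 0 := by
    rw [hord1]
    cases b
    · simp
    · have := Nat.one_lt_pow hd.ne' (Fintype.one_lt_card (α := F))
      simp only [if_true]; omega
  set w := g1 ^ (orderOf g1 / e) with hw
  have hdvd1 : e ∣ orderOf g1 := hord1 ▸ hb
  have hworder : orderOf w = e := by
    rw [hw, orderOf_pow' _ (Nat.div_pos (Nat.le_of_dvd (Nat.pos_of_ne_zero hne) hdvd1) he.pos).ne',
      Nat.gcd_eq_right (Nat.div_dvd_of_dvd hdvd1), Nat.div_div_self hdvd1 hne]
  let W := Fin (2 * (n - d)) → F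
  let B : LinearMap.BilinForm F (V × W) :=
    B1.compl₁₂ (LinearMap.fst F V W) (LinearMap.fst F V W) +
      B2.compl₁₂ (LinearMap.snd F V W) (LinearMap.snd F V W)
  have hB : ∀ a b : V × W, B a b = B1 a.1 b.1 + B2 a.2 b.2 := fun _ _ => rfl
  let g : Module.End F (V × W) := LinearMap.prodMap (-w) u
  have hw' : Isom B1 w := hg1.pow _
  have hA : B.IsAlt := fun a => by rw [hB, hA1, hA2, add_zero]
  have hBn : B.Nondegenerate := by
    refine ⟨fun a ha => Prod.ext (hB1.1 _ fun y => ?_) (hB2.1 _ fun y => ?_),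
      fun a ha => Prod.ext (hB1.2 _ fun y => ?_) (hB2.2 _ fun y => ?_)⟩
    · simpa [hB] using ha (y, 0)
    · simpa [hB] using ha (0, y)
    · simpa [hB] using ha (y, 0)
    · simpa [hB] using ha (0, y)
  have hfin : Module.finrank F (V × W) = 2 * n := by
    rw [Module.finrank_prod, hfin1, Module.finrank_fintype_fun_eq_card, Fintype.card_fin]; omega
  have hg : Isom B g := fun a b => by
    rw [hB, hB]
    show B1 ((-w) a.1) ((-w) b.1) + B2 (u a.2) (u b.2) = _
    simp only [LinearMap.neg_apply, map_neg, neg_neg]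
    rw [hu, hw']
  obtain ⟨x, hx⟩ := realize B hA hBn hfin hg
  refine ⟨QuotientGroup.mk x, orderOf_dvd_mk (by omega) x fun k hk => ?_⟩
  have hgk : ∀ k, g ^ k = LinearMap.prodMap ((-w) ^ k) (u ^ k) := fun k => by
    induction k with
    | zero => exact LinearMap.ext fun a => rfl
    | succ k ih => rw [pow_succ, ih, pow_succ, pow_succ]; rfl
  haveI : Nontrivial V := Module.nontrivial_of_finrank_pos (R := F) (by omega)
  haveI : Nonempty (Fin (2 * (n - d))) := ⟨⟨0, by omega⟩⟩
  haveI : Nontrivial W := inferInstanceAs (Nontrivial (Fin (2 * (n - d)) → F))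
  have hcomp : (-w) ^ k = 1 ∧ u ^ k = 1 := by
    rcases hk with hk | hk
    · have h := (hx k).1.1 hk
      rw [hgk] at h
      exact ⟨LinearMap.ext fun a => (congrArg (fun q : Module.End F (V × W) => (q (a, 0)).1) h),
        LinearMap.ext fun a => (congrArg (fun q : Module.End F (V × W) => (q (0, a)).2) h)⟩
    · have h := (hx k).2.1 hk
      rw [hgk] at h
      exfalso
      have h' : u ^ k = -1 := LinearMap.ext fun a =>
        (congrArg (fun q : Module.End F (V × W) => (q (0, a)).2) h)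
      have h3 : (u ^ k) ^ orderOf u = 1 := by rw [← pow_mul, Nat.mul_comm k, pow_mul, pow_orderOf_eq_one, one_pow]
      have ho : Odd (orderOf u) := by rw [hordu]; exact (hp.odd_of_ne_two hp2).pow
      rw [h'] at h3
      exact neg_one_ne_one h2 (U := Fin (2 * (n - d)) → F) ((ho.neg_one_pow (α := Module.End F (Fin (2 * (n - d)) → F))).symm.trans h3)
  have hm : orderOf (-1 : Module.End F V) = 2 := orderOf_eq_prime neg_one_sq (neg_one_ne_one h2)
  have hco : orderOf (-w) = 2 * e := by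
    rw [← neg_one_mul, (Commute.neg_one_left w).orderOf_mul_eq_mul_orderOf_of_coprime
      (by rw [hm, hworder]; exact Nat.coprime_two_left.2 he), hm, hworder]
  have h1 : 2 * e ∣ k := hco ▸ orderOf_dvd_of_pow_eq_one hcomp.1
  have h3 : p ^ (j + 1) ∣ k := (pow_dvd_pow p hi).trans (hordu ▸ orderOf_dvd_of_pow_eq_one hcomp.2)
  refine Nat.Coprime.mul_dvd_of_dvd_of_dvd ?_ h1 h3
  refine Nat.Coprime.pow_right _ (Nat.Coprime.mul_left ?_ hpe.symm)
  exact (Nat.coprime_primes Nat.prime_two hp).2 (Ne.symm hp2)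

/-- The trichotomy for orders in `PSp`. -/
theorem trichotomy {p : ℕ} [Fact p.Prime] [CharP F p] (h2 : (2 : F) ≠ 0) {n : ℕ} (hn : 2 ≤ n)
    (y : Cfsg.PSp n F) :
    (∃ z : Cfsg.PSp n F, Nat.lcm 2 (orderOf y) ∣ orderOf z) ∨
    (orderOf y ∣ Fintype.card F ^ n - 1 ∨ orderOf y ∣ Fintype.card F ^ n + 1) ∧ Odd (orderOf y) ∨
    (∃ j, orderOf y = p ^ j ∧ ∃ i, 2 * n - 1 = p ^ i) ∧ Odd (orderOf y) := by
  classical
  rcases Nat.even_or_odd (orderOf y) with hev | hodd
  · exact Or.inl ⟨y, Nat.lcm_dvd hev.two_dvd dvd_rfl⟩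
  have hp : p.Prime := Fact.out
  have hlcm : Nat.lcm 2 (orderOf y) = 2 * orderOf y :=
    (Nat.coprime_two_left.2 hodd).lcm_eq_mul
  rw [hlcm]
  obtain ⟨x₀, rfl⟩ := QuotientGroup.mk_surjective y
  set a := orderOf (QuotientGroup.mk x₀ : Cfsg.PSp n F) with ha
  set x := x₀ ^ (a + 1) with hx
  have hmk : (QuotientGroup.mk x : Cfsg.PSp n F) = QuotientGroup.mk x₀ := by
    rw [hx, QuotientGroup.mk_pow, pow_succ, pow_orderOf_eq_one, one_mul]
  have hxa : x ^ a = 1 := by
    rw [hx, ← pow_mul, mul_comm, pow_mul]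
    rcases (mk_pow_eq_one (by omega) x₀ a).1 (pow_orderOf_eq_one _) with h | h
    · rw [h, one_pow]
    · refine Subtype.ext ?_
      rw [SubmonoidClass.coe_pow, h, (Odd.add_one hodd).neg_one_pow]; rfl
  have hxo : orderOf x = a := by
    refine Nat.dvd_antisymm (orderOf_dvd_of_pow_eq_one hxa) ?_
    rw [ha, ← hmk]
    exact orderOf_map_dvd (QuotientGroup.mk' (Subgroup.center (Matrix.symplecticGroup (Fin n) F))) x
  let φ : Matrix.symplecticGroup (Fin n) F →* Module.End F (Fin n ⊕ Fin n → F) :=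
    (Matrix.toLinAlgEquiv' (R := F) (n := Fin n ⊕ Fin n)).toMonoidHom.comp
      (Matrix.symplecticGroup (Fin n) F).subtype
  have hφi : Function.Injective φ :=
    (Matrix.toLinAlgEquiv' (R := F) (n := Fin n ⊕ Fin n)).injective.comp Subtype.val_injective
  have hφ : ∀ (z : Matrix.symplecticGroup (Fin n) F) v, φ z v = z.1 *ᵥ v :=
    fun _ _ => Matrix.toLinAlgEquiv'_apply _ _
  have hiso : Isom (sympBilin n F) (φ x) := fun u v => by
    rw [sympBilin_apply, sympBilin_apply, hφ, hφ]; exact sp_form x u v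
  have hφo : orderOf (φ x) = a := by rw [orderOf_injective φ hφi, hxo]
  have hfin : Module.finrank F (Fin n ⊕ Fin n → F) = 2 * n := by
    rw [Module.finrank_fintype_fun_eq_card, Fintype.card_sum, Fintype.card_fin]; omega
  have hq : ∀ d, d ∣ n → ∀ e, (e ∣ Fintype.card F ^ d - 1 ∨ e ∣ Fintype.card F ^ d + 1) →
      e ∣ Fintype.card F ^ n - 1 ∨ e ∣ Fintype.card F ^ n + 1 := by
    rintro d ⟨m, rfl⟩ e he
    have hsub : ∀ k, Fintype.card F ^ d - 1 ∣ Fintype.card F ^ (d * k) - 1 := fun k => by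
      rw [pow_mul]; simpa using Nat.sub_dvd_pow_sub_pow (Fintype.card F ^ d) 1 k
    rcases he with he | he
    · exact Or.inl (he.trans (hsub m))
    · rcases Nat.even_or_odd m with ⟨k, hk⟩ | hm
      · left
        have hd2 : Fintype.card F ^ d + 1 ∣ Fintype.card F ^ (d * 2) - 1 := by
          rw [pow_mul]
          exact ⟨Fintype.card F ^ d - 1, by rw [← Nat.sq_sub_sq, one_pow]⟩
        refine he.trans (hd2.trans ?_)
        have : Fintype.card F ^ (d * 2) - 1 ∣ Fintype.card F ^ (d * 2 * k) - 1 := by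
          rw [pow_mul _ (d * 2) k]; simpa using Nat.sub_dvd_pow_sub_pow (Fintype.card F ^ (d * 2)) 1 k
        rwa [show d * m = d * 2 * k by rw [hk]; ring]
      · right
        refine he.trans ?_
        rw [pow_mul]
        simpa using Odd.nat_add_dvd_pow_add_pow (Fintype.card F ^ d) 1 hm
  rcases classify (B := sympBilin n F) (sympBilin_nondegenerate F n) h2 (p := p) hfin
      (by omega) hiso (by rw [hφo]; exact hodd) with ⟨J, hJ, hJJ, hJ1, hJm, hJc⟩ | ⟨j, hj, hjn⟩ | ⟨d, e, j, hj, hdn, hd, he, hjm⟩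
  · left
    let MJ : Matrix (Fin n ⊕ Fin n) (Fin n ⊕ Fin n) F := LinearMap.toMatrixAlgEquiv' J
    have hMJ : ∀ v, MJ *ᵥ v = J v := fun v => LinearMap.toMatrix'_mulVec J v
    have hmem : MJ ∈ Matrix.symplecticGroup (Fin n) F := by
      rw [mem_symplecticGroup_iff_form]
      intro u v
      rw [hMJ, hMJ, ← sympBilin_apply, ← sympBilin_apply, hJ]
    let z : Matrix.symplecticGroup (Fin n) F := ⟨MJ, hmem⟩
    have hφz : φ z = J := LinearMap.ext fun v => by rw [hφ, hMJ]
    have hcomm : Commute x z := hφi (by rw [map_mul, map_mul, hφz]; exact hJc.eq)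
    refine ⟨QuotientGroup.mk x * QuotientGroup.mk z, ?_⟩
    have hz2 : orderOf (QuotientGroup.mk z : Cfsg.PSp n F) = 2 := by
      refine orderOf_eq_prime ?_ ?_
      · refine (mk_pow_eq_one (by omega) z 2).2 (Or.inl (hφi ?_))
        rw [map_pow, map_one, hφz, pow_two, hJJ]
      · intro h
        rw [← pow_one (QuotientGroup.mk z : Cfsg.PSp n F), mk_pow_eq_one (by omega), pow_one] at h
        rcases h with h | h
        · exact hJ1 (by rw [← hφz, h, map_one])
        · refine hJm ?_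
          rw [← hφz]
          refine LinearMap.ext fun v => ?_
          rw [hφ, h, Matrix.neg_mulVec, Matrix.one_mulVec]; rfl
    have hcm : Commute (QuotientGroup.mk x : Cfsg.PSp n F) (QuotientGroup.mk z) :=
      hcomm.map (QuotientGroup.mk' (Subgroup.center (Matrix.symplecticGroup (Fin n) F)))
    rw [hcm.orderOf_mul_eq_mul_orderOf_of_coprime (by rw [hz2, hmk, ← ha]; exact Nat.coprime_two_right.2 hodd),
      hz2, hmk, ← ha, mul_comm]
  · rw [hφo] at hj
    by_cases hM : ∃ i, 2 * n - 1 = p ^ i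
    · exact Or.inr (Or.inr ⟨⟨j, hj, hM⟩, hodd⟩)
    left
    have hlt : p ^ (j - 1) < 2 * (n - 1) := by
      rcases hjn with rfl | hjn
      · simp; omega
      · have hne : p ^ (j - 1) ≠ 2 * n - 1 := fun h => hM ⟨_, h.symm⟩
        have hpodd : Odd (p ^ (j - 1)) := (hp.odd_of_ne_two (by
          rintro rfl; exact h2 (by exact_mod_cast CharP.cast_eq_zero F 2))).pow
        obtain ⟨c, hc⟩ := hpodd
        omega
    obtain ⟨z, hz⟩ := exists_mixed (p := p) h2 (d := 1) (e := 1) Nat.one_pos (by omega) odd_one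
      (Nat.coprime_one_right p) (Or.inl (one_dvd _)) hlt
    refine ⟨z, (?_ : 2 * a ∣ 2 * 1 * p ^ (j - 1 + 1)).trans hz⟩
    rw [hj, mul_one]
    exact Nat.mul_dvd_mul_left 2 (pow_dvd_pow p (by omega))
  · rw [hφo] at hj
    rcases Nat.eq_zero_or_pos j with rfl | hj0
    · rw [pow_zero, one_mul] at hj
      exact Or.inr (Or.inl ⟨hj.symm ▸ hq d hdn e he, hodd⟩)
    left
    have hjm' : p ^ (j - 1) < n / d := hjm.resolve_left hj0.ne'
    obtain ⟨m, rfl⟩ := hdn
    rw [Nat.mul_div_cancel_left _ hd] at hjm'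
    have hm2 : 2 ≤ m := by have := pow_pos hp.pos (j - 1); omega
    have hlt : p ^ (j - 1) < 2 * (d * m - d) := by
      have : d * m - d = d * (m - 1) := by rw [Nat.mul_sub, mul_one]
      rw [this]
      have : 1 * (m - 1) ≤ d * (m - 1) := Nat.mul_le_mul_right _ hd
      omega
    have heodd : Odd e := by rw [hj] at hodd; exact Nat.Odd.of_mul_right (m := p ^ j) hodd
    have hcop : Nat.Coprime p e := by
      rw [hp.coprime_iff_not_dvd]
      intro hpe
      have hqd : p ∣ Fintype.card F ^ d := by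
        refine dvd_pow ?_ hd.ne'
        obtain ⟨i, -, hi⟩ := FiniteField.card F p
        rw [hi]; exact dvd_pow_self p i.pos.ne'
      have hpos : 1 ≤ Fintype.card F ^ d := Nat.one_le_pow _ _ Fintype.card_pos
      rcases he with he | he
      · have := Nat.dvd_sub hqd (hpe.trans he)
        rw [Nat.sub_sub_self hpos] at this
        exact hp.not_dvd_one this
      · exact hp.not_dvd_one ((Nat.dvd_add_right hqd).1 (hpe.trans he))
    have hdlt : d < d * m := by nlinarith
    obtain ⟨z, hz⟩ := exists_mixed (p := p) h2 hd hdlt heodd hcop he hlt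
    refine ⟨z, (?_ : 2 * a ∣ 2 * e * p ^ (j - 1 + 1)).trans hz⟩
    rw [hj, Nat.sub_add_cancel hj0]
    exact dvd_of_eq (by ring)

theorem exists_orderOf_of_dvd {G : Type*} [Group G] [Finite G] {y : G} {D : ℕ} (h : D ∣ orderOf y) :
    ∃ z : G, orderOf z = D :=
  ⟨y ^ (orderOf y / D), by
    rw [orderOf_pow_of_dvd (Nat.div_pos (Nat.le_of_dvd (orderOf_pos y) h)
      (Nat.pos_of_dvd_of_pos h (orderOf_pos y))).ne' (Nat.div_dvd_of_dvd h),
      Nat.div_div_self h (orderOf_pos y).ne']⟩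

/-- The spectrum of a product with an exponent two factor. -/
theorem range_orderOf_absorb {A : Type*} [Group A] (hA : ∀ v : A, v ^ 2 = 1)
    {P : Type*} [Group P] [Finite P]
    (h : ∀ x : P, ∃ y : P, Nat.lcm 2 (orderOf x) ∣ orderOf y) :
    Set.range (orderOf : P × A → ℕ) = Set.range (orderOf : P → ℕ) := by
  apply Set.Subset.antisymm
  · rintro _ ⟨⟨x, v⟩, rfl⟩
    obtain ⟨y, hy⟩ := h x
    refine exists_orderOf_of_dvd ((?_ : orderOf (x, v) ∣ _).trans hy)
    rw [Prod.orderOf_mk, Nat.lcm_comm 2]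
    exact Nat.lcm_dvd (Nat.dvd_lcm_left _ _) ((orderOf_dvd_of_pow_eq_one (hA v)).trans (Nat.dvd_lcm_right _ _))
  · rintro _ ⟨x, rfl⟩
    exact ⟨(x, 1), by rw [Prod.orderOf_mk, orderOf_one, Nat.lcm_one_right]⟩

end Cfsg.Agent.Lib.SpSpec
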