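import Cfsg.Agent.Lib.SpSpec.Split
import Cfsg.Agent.Lib.Classical.SympCard

/-!
Elements of the symplectic groups of prescribed order.
-/

set_option autoImplicit false

namespace Cfsg.Agent.Lib.SpSpec

open Cfsg.Agent.Lib.Classical Cfsg.Agent.Lib.Geometry
open scoped Matrix

variable {F : Type*} [Field F] [Fintype F]

/-- An isometry is realised in the symplectic group. -/
theorem realize {V : Type*} [AddCommGroup V] [Module F V] [Module.Finite F V]
    (B : LinearMap.BilinForm F V) (hA : B.IsAlt) (hB : B.Nondegenerate) {n : ℕ}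
    (hn : Module.finrank F V = 2 * n) {g : Module.End F V} (hg : Isom B g) :
    ∃ x : Matrix.symplecticGroup (Fin n) F, ∀ k : ℕ,
      (x ^ k = 1 ↔ g ^ k = 1) ∧ ((x ^ k).1 = -1 ↔ g ^ k = -1) := by
  classical
  haveI : Finite V := Module.finite_of_finite F
  have hq : 1 < Fintype.card F := Fintype.one_lt_card
  have hV : Nat.card V = Fintype.card F ^ (2 * n) := by
    rw [Module.natCard_eq_pow_finrank (K := F), hn, Nat.card_eq_fintype_card]
  have hpos : 0 < Nat.card {p : Fin n → V × V // IsSympFrame B p} := by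
    rw [card_frames hA hB hV n le_rfl]
    refine Finset.prod_pos fun i hi => Nat.mul_pos ?_ (pow_pos (by omega) _)
    have := Nat.one_lt_pow (n := 2 * (n - i)) (by have := Finset.mem_range.1 hi; omega) hq
    omega
  obtain ⟨⟨p, hp⟩⟩ := (Nat.card_pos_iff.1 hpos).1
  let ψ : V →ₗ[F] (Fin n ⊕ Fin n → F) :=
    { toFun := fun v => Sum.elim (frameVal (B := B) p v).2 (frameVal (B := B) p v).1
      map_add' := fun u v => by
        funext i; rcases i with i | i <;> simp [map_add]
      map_smul' := fun c v => by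
        funext i; rcases i with i | i <;> simp [map_smul] }
  have hsurj : Function.Surjective ψ := fun w =>
    ⟨frameSolve p (fun a => w (Sum.inr a), fun a => w (Sum.inl a)), by
      funext i
      rcases i with i | i <;>
      · simp only [ψ, LinearMap.coe_mk, AddHom.coe_mk, frameVal_frameSolve hA hp, Sum.elim_inl,
          Sum.elim_inr]⟩
  have hinj : Function.Injective ψ :=
    (LinearMap.injective_iff_surjective_of_finrank_eq_finrank
      (by rw [hn, Module.finrank_fintype_fun_eq_card, Fintype.card_sum, Fintype.card_fin]; omega)).2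
      hsurj
  let e : V ≃ₗ[F] (Fin n ⊕ Fin n → F) := LinearEquiv.ofBijective ψ ⟨hinj, hsurj⟩
  have hform : ∀ u v, Cfsg.sympForm n F (e u) (e v) = B u v := by
    intro u v
    have hu : u = frameSolve p (frameVal (B := B) p u) := by
      apply hinj
      funext i
      rcases i with i | i <;> simp [ψ, frameVal_frameSolve hA hp]
    rw [sympForm_eq_sum]
    conv_rhs => rw [hu, frameSolve]
    simp [e, ψ, frameVal_apply, Finset.sum_sub_distrib]
  let A : Module.End F (Fin n ⊕ Fin n → F) := e.conjAlgEquiv F g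
  let M : Matrix (Fin n ⊕ Fin n) (Fin n ⊕ Fin n) F := LinearMap.toMatrixAlgEquiv' A
  have hM : ∀ w, M *ᵥ w = A w := fun w => LinearMap.toMatrix'_mulVec A w
  have hmem : M ∈ Matrix.symplecticGroup (Fin n) F := by
    rw [mem_symplecticGroup_iff_form]
    intro u v
    rw [hM, hM]
    show Cfsg.sympForm n F (e (g (e.symm u))) (e (g (e.symm v))) = _
    rw [hform, hg, ← hform, e.apply_symm_apply, e.apply_symm_apply]
  refine ⟨⟨M, hmem⟩, fun k => ?_⟩
  have hk : ((⟨M, hmem⟩ : Matrix.symplecticGroup (Fin n) F) ^ k).1 =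
      LinearMap.toMatrixAlgEquiv' (e.conjAlgEquiv F (g ^ k)) := by
    rw [SubmonoidClass.coe_pow, map_pow, map_pow]
  have hinj' : Function.Injective fun h : Module.End F V =>
      LinearMap.toMatrixAlgEquiv' (e.conjAlgEquiv F h) :=
    (LinearMap.toMatrixAlgEquiv' (R := F)).injective.comp (e.conjAlgEquiv F).injective
  constructor
  · constructor
    · intro h
      refine hinj' ?_
      show LinearMap.toMatrixAlgEquiv' (e.conjAlgEquiv F (g ^ k)) = LinearMap.toMatrixAlgEquiv' (e.conjAlgEquiv F 1)
      rw [map_one, map_one, ← hk, h]; rfl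
    · intro h
      refine Subtype.ext ?_
      rw [hk, h, map_one, map_one]; rfl
  · rw [hk]
    constructor
    · intro h
      refine hinj' ?_
      show LinearMap.toMatrixAlgEquiv' (e.conjAlgEquiv F (g ^ k)) = LinearMap.toMatrixAlgEquiv' (e.conjAlgEquiv F (-1))
      rw [h, map_neg, map_neg, map_one, map_one]
    · intro h
      rw [h, map_neg, map_neg, map_one, map_one]

/-- The order in the projective group of an element of the symplectic group. -/
theorem mk_pow_eq_one {n : ℕ} (hn : 1 ≤ n) (x : Matrix.symplecticGroup (Fin n) F) (k : ℕ) :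
    (QuotientGroup.mk x : Cfsg.PSp n F) ^ k = 1 ↔ x ^ k = 1 ∨ (x ^ k).1 = -1 := by
  rw [← QuotientGroup.mk_pow, QuotientGroup.eq_one_iff, mem_center_sp_iff hn]
  exact or_congr ⟨fun h => Subtype.ext h, fun h => congrArg Subtype.val h⟩ Iff.rfl

/-- A field extension of given degree. -/
theorem exists_ext (d : ℕ) (hd : 0 < d) : ∃ (L : Type) (_ : Field L) (_ : Fintype L) (_ : Algebra F L),
    Module.finrank F L = d ∧ Fintype.card L = Fintype.card F ^ d := by
  obtain ⟨p, hp⟩ := CharP.exists F
  haveI : Fact p.Prime := ⟨CharP.char_is_prime F p⟩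
  haveI : NeZero d := ⟨hd.ne'⟩
  haveI := Fintype.ofFinite (FiniteField.Extension F p d)
  refine ⟨FiniteField.Extension F p d, inferInstance, inferInstance, inferInstance,
    FiniteField.finrank_extension F p d, ?_⟩
  rw [← Nat.card_eq_fintype_card, Module.natCard_eq_pow_finrank (K := F),
    FiniteField.finrank_extension, Nat.card_eq_fintype_card]

/-- Tori of both types. -/
theorem exists_torus {d : ℕ} (hd : 0 < d) (h2 : (2 : F) ≠ 0) (minus : Bool) :
    ∃ (V : Type) (_ : AddCommGroup V) (_ : Module F V) (_ : Module.Finite F V)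
      (B : LinearMap.BilinForm F V) (g : Module.End F V),
      B.IsAlt ∧ B.Nondegenerate ∧ Module.finrank F V = 2 * d ∧ Isom B g ∧
      orderOf g = (if minus then Fintype.card F ^ d - 1 else Fintype.card F ^ d + 1) := by
  classical
  cases minus with
  | true =>
    obtain ⟨K, _, _, _, hfin, hcard⟩ := exists_ext (F := F) d hd
    obtain ⟨z, hz⟩ := IsCyclic.exists_generator (α := Kˣ)
    have hzord : orderOf z = Fintype.card F ^ d - 1 := by
      rw [orderOf_eq_card_of_forall_mem_zpowers hz, Nat.card_units, Nat.card_eq_fintype_card, hcard]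
    haveI : Module.Finite F K := Module.Finite.of_finite
    haveI : Algebra.IsSeparable F K := Algebra.IsAlgebraic.isSeparable_of_perfectField
    let B : LinearMap.BilinForm F (K × K) :=
      (Algebra.traceForm F K).compl₁₂ (LinearMap.fst F K K) (LinearMap.snd F K K) -
        (Algebra.traceForm F K).compl₁₂ (LinearMap.snd F K K) (LinearMap.fst F K K)
    let g : Module.End F (K × K) :=
      LinearMap.prodMap (Algebra.lmul F K (z : K)) (Algebra.lmul F K ((z⁻¹ : Kˣ) : K))
    have hB : ∀ u v : K × K, B u v =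
        Algebra.trace F K (u.1 * v.2) - Algebra.trace F K (u.2 * v.1) := fun _ _ => rfl
    refine ⟨K × K, inferInstance, inferInstance, inferInstance, B, g, ?_, ?_, ?_, ?_, ?_⟩
    · intro u; rw [hB, mul_comm, sub_self]
    · have hnd := (traceForm_nondegenerate F K).1
      refine ⟨fun u hu => Prod.ext (hnd _ fun y => ?_) (hnd _ fun y => ?_),
        fun u hu => Prod.ext (hnd _ fun y => ?_) (hnd _ fun y => ?_)⟩
      · simpa [hB, Algebra.traceForm_apply] using hu (0, y)
      · simpa [hB, Algebra.traceForm_apply] using hu (y, 0)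
      · simpa [hB, Algebra.traceForm_apply, mul_comm] using hu (0, y)
      · simpa [hB, Algebra.traceForm_apply, mul_comm] using hu (y, 0)
    · rw [Module.finrank_prod, hfin]; omega
    · intro u v
      rw [hB, hB]
      show Algebra.trace F K ((z : K) * u.1 * (((z⁻¹ : Kˣ) : K) * v.2)) -
        Algebra.trace F K (((z⁻¹ : Kˣ) : K) * u.2 * ((z : K) * v.1)) = _
      rw [mul_mul_mul_comm, Units.mul_inv, one_mul, mul_mul_mul_comm, Units.inv_mul, one_mul]
    · show orderOf g = Fintype.card F ^ d - 1
      rw [← hzord]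
      let Φ : Kˣ →* Module.End F (K × K) :=
        { toFun := fun w => LinearMap.prodMap (Algebra.lmul F K (w : K))
            (Algebra.lmul F K ((w⁻¹ : Kˣ) : K))
          map_one' := LinearMap.ext fun u => Prod.ext (by simp) (by simp)
          map_mul' := fun a b => LinearMap.ext fun u => Prod.ext
            (by simp [mul_assoc]) (by simp [mul_inv]; ring) }
      refine orderOf_injective Φ (fun a b h => Units.ext ?_) z
      simpa [Φ] using congrArg (fun q : Module.End F (K × K) => (q (1, 0)).1) h
  | false =>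
    obtain ⟨L, _, _, _, hfin, hcard⟩ := exists_ext (F := F) (2 * d) (by omega)
    haveI : Module.Finite F L := Module.Finite.of_finite
    haveI : Algebra.IsSeparable F L := Algebra.IsAlgebraic.isSeparable_of_perfectField
    set Q := Fintype.card F ^ d with hQ
    have hQ1 : 1 < Q := Nat.one_lt_pow hd.ne' Fintype.one_lt_card
    have hcard2 : Fintype.card L = Q * Q := by rw [hcard, hQ, two_mul, pow_add]
    let σ : L →ₐ[F] L := FiniteField.frobeniusAlgHom F L ^ d
    have hσ : ∀ x, σ x = x ^ Q := fun x => by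
      have : ∀ k, ((FiniteField.frobeniusAlgHom F L) ^ k) x = x ^ Fintype.card F ^ k := by
        intro k
        induction k with
        | zero => simp
        | succ k ih =>
          rw [pow_succ', AlgHom.mul_apply, ih, pow_succ]
          show (x ^ Fintype.card F ^ k) ^ Fintype.card F = _
          rw [← pow_mul]
      exact this d
    have hdvd : Q + 1 ∣ Nat.card Lˣ := by
      rw [Nat.card_units, Nat.card_eq_fintype_card, hcard2]
      exact ⟨Q - 1, by rw [← Nat.sq_sub_sq Q 1, pow_two, one_pow]⟩
    obtain ⟨w, hw⟩ := IsCyclic.exists_generator (α := Lˣ)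
    obtain ⟨z, hz⟩ : ∃ z : Lˣ, orderOf z = Q + 1 := by
      refine ⟨w ^ (orderOf w / (Q + 1)), ?_⟩
      rw [orderOf_eq_card_of_forall_mem_zpowers hw]
      rw [orderOf_pow' _ (Nat.div_pos (Nat.le_of_dvd Nat.card_pos hdvd) (by omega)).ne',
        orderOf_eq_card_of_forall_mem_zpowers hw, Nat.gcd_eq_right (Nat.div_dvd_of_dvd hdvd),
        Nat.div_div_self hdvd Nat.card_pos.ne']
    have hzQ : σ (z : L) = ((z⁻¹ : Lˣ) : L) := by
      rw [hσ, ← Units.val_pow_eq_pow_val]
      congr 1
      rw [eq_inv_iff_mul_eq_one, ← pow_succ, ← hz, pow_orderOf_eq_one]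
    set δ : L := (z : L) - ((z⁻¹ : Lˣ) : L) with hδ
    have hδσ : σ δ = -δ := by
      rw [hδ, map_sub, hzQ, hσ, ← Units.val_pow_eq_pow_val]
      have : (z⁻¹) ^ Q = z := by
        rw [inv_pow, inv_eq_iff_mul_eq_one, ← pow_succ, ← hz, pow_orderOf_eq_one]
      rw [this]; ring
    have hδ0 : δ ≠ 0 := by
      intro h
      rw [hδ, sub_eq_zero] at h
      have : z ^ 2 = 1 := by
        rw [pow_two]; nth_rewrite 1 [Units.ext h]; exact inv_mul_cancel z
      have := orderOf_dvd_of_pow_eq_one this
      rw [hz] at this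
      have := Nat.le_of_dvd two_pos this
      omega
    have hσσ : ∀ x, σ (σ x) = x := fun x => by
      rw [hσ, hσ, ← pow_mul, ← hcard2, FiniteField.pow_card]
    let σe : L ≃ₐ[F] L := AlgEquiv.ofBijective σ σ.bijective
    have htr : ∀ x, Algebra.trace F L (σ x) = Algebra.trace F L x := fun x =>
      Algebra.trace_eq_of_algEquiv σe x
    let B : LinearMap.BilinForm F L :=
      (Algebra.traceForm F L).compl₁₂ (Algebra.lmul F L δ) σ.toLinearMap
    have hB : ∀ u v : L, B u v = Algebra.trace F L (δ * u * σ v) := fun _ _ => rfl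
    refine ⟨L, inferInstance, inferInstance, inferInstance, B, Algebra.lmul F L (z : L),
      ?_, ?_, hfin, ?_, ?_⟩
    · intro u
      have h := htr (δ * u * σ u)
      rw [map_mul σ, map_mul σ, hδσ, hσσ, show -δ * σ u * u = -(δ * u * σ u) by ring, map_neg] at h
      rw [hB]
      have : (2 : F) * Algebra.trace F L (δ * u * σ u) = 0 := by linear_combination -h
      exact (mul_eq_zero.1 this).resolve_left h2
    · have hnd := traceForm_nondegenerate F L
      refine ⟨fun u hu => ?_, fun u hu => ?_⟩
      · refine (mul_eq_zero.1 (hnd.1 (δ * u) fun y => ?_)).resolve_left hδ0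
        rw [Algebra.traceForm_apply]
        have := hu (σ y)
        rwa [hB, hσσ] at this
      · have h0 : σ u = 0 := hnd.2 (σ u) fun y => by
          rw [Algebra.traceForm_apply]
          have := hu (δ⁻¹ * y)
          rwa [hB, ← mul_assoc, mul_inv_cancel₀ hδ0, one_mul] at this
        exact σ.injective (h0.trans (map_zero σ).symm)
    · intro u v
      rw [hB, hB]
      show Algebra.trace F L (δ * ((z : L) * u) * σ ((z : L) * v)) = _
      rw [map_mul σ, hzQ]
      congr 1
      rw [show δ * ((z : L) * u) * (((z⁻¹ : Lˣ) : L) * σ v) =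
        ((z : L) * ((z⁻¹ : Lˣ) : L)) * (δ * u * σ v) by ring, Units.mul_inv, one_mul]
    · show orderOf (Algebra.lmul F L (z : L)) = Q + 1
      rw [← hz, ← orderOf_units]
      refine orderOf_injective (Algebra.lmul F L : L →ₐ[F] Module.End F L).toMonoidHom
        (fun a b h => ?_) (z : L)
      simpa using congrArg (fun q : Module.End F L => q 1) h

/-- A unipotent isometry with one Jordan block. -/
theorem exists_unipotent {p : ℕ} [Fact p.Prime] [CharP F p] (h2 : (2 : F) ≠ 0) {N j : ℕ}
    (hj : p ^ j < 2 * N) :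
    ∃ (B : LinearMap.BilinForm F (Fin (2 * N) → F)) (g : Module.End F (Fin (2 * N) → F)),
      B.IsAlt ∧ B.Nondegenerate ∧ Isom B g ∧ ∃ i, j + 1 ≤ i ∧ orderOf g = p ^ i := by
  classical
  have hp : p.Prime := Fact.out
  let M : Matrix (Fin (2 * N)) (Fin (2 * N)) F :=
    Matrix.of fun i k => if k = i.rev then (-1) ^ (i : ℕ) else 0
  let B : LinearMap.BilinForm F (Fin (2 * N) → F) := Matrix.toBilin' M
  have hB : ∀ u v : Fin (2 * N) → F, B u v = ∑ i : Fin (2 * N), (-1) ^ (i : ℕ) * (u i * v i.rev) := by
    intro u v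
    rw [Matrix.toBilin'_apply]
    refine Finset.sum_congr rfl fun i _ => ?_
    rw [Finset.sum_eq_single i.rev]
    · simp [M]; ring
    · intro k _ hk; simp [M, hk]
    · simp
  have hrev : ∀ i : Fin (2 * N), (-1 : F) ^ (i.rev : ℕ) = - (-1) ^ (i : ℕ) := by
    intro i
    have h : (i.rev : ℕ) + i + 1 = 2 * N := by rw [Fin.val_rev]; omega
    have h' : ((-1 : F) ^ (i.rev : ℕ)) * (-1) ^ (i : ℕ) * (-1) = 1 := by
      rw [← pow_add, ← pow_succ, h, pow_mul, neg_one_sq, one_pow]
    rcases neg_one_pow_eq_or F (i : ℕ) with h3 | h3 <;> rw [h3] at h' ⊢ <;>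
      first | linear_combination -h' | linear_combination h' 
  let S : Module.End F (Fin (2 * N) → F) :=
    { toFun := fun v i => if h : (i : ℕ) + 1 < 2 * N then v ⟨i + 1, h⟩ else 0
      map_add' := fun u v => by funext i; simp only [Pi.add_apply]; split <;> simp
      map_smul' := fun c v => by funext i; simp only [Pi.smul_apply, RingHom.id_apply]; split <;> simp }
  have hSpow : ∀ (k : ℕ) (v : Fin (2 * N) → F) (i : Fin (2 * N)),
      (S ^ k) v i = if h : (i : ℕ) + k < 2 * N then v ⟨i + k, h⟩ else 0 := by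
    intro k
    induction k with
    | zero => intro v i; simp
    | succ k ih =>
      intro v i
      rw [pow_succ, Module.End.mul_apply, ih]
      by_cases h : (i : ℕ) + k < 2 * N
      · rw [dif_pos h]
        show (if h' : (i : ℕ) + k + 1 < 2 * N then _ else _) = _
        split_ifs with h1 h2 <;> first | rfl | (exfalso; omega) | skip
      · rw [dif_neg h, dif_neg (by omega)]
  have hskew : ∀ u v, B (S u) v + B u (S v) = 0 := by
    intro u v
    let f1 : ℕ → F := fun i =>
      if h : i + 1 < 2 * N then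
        (-1) ^ i * (u ⟨i + 1, h⟩ * v (⟨i, by omega⟩ : Fin (2 * N)).rev) else 0
    let f2 : ℕ → F := fun i =>
      if h : 0 < i ∧ i < 2 * N then
        (-1) ^ i * (u ⟨i, h.2⟩ * v (⟨i - 1, by omega⟩ : Fin (2 * N)).rev) else 0
    have e1 : B (S u) v = ∑ i ∈ Finset.range (2 * N), f1 i := by
      rw [hB, ← Fin.sum_univ_eq_sum_range]
      refine Finset.sum_congr rfl fun i _ => ?_
      simp only [f1, S, LinearMap.coe_mk, AddHom.coe_mk]
      split <;> simp
    have e2 : B u (S v) = ∑ i ∈ Finset.range (2 * N), f2 i := by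
      rw [hB, ← Fin.sum_univ_eq_sum_range]
      refine Finset.sum_congr rfl fun i _ => ?_
      simp only [f2, S, LinearMap.coe_mk, AddHom.coe_mk]
      have hv : (i.rev : ℕ) = 2 * N - (i + 1) := Fin.val_rev i
      by_cases h0 : 0 < (i : ℕ)
      · rw [dif_pos (by omega : ((i.rev : Fin (2 * N)) : ℕ) + 1 < 2 * N),
          dif_pos ⟨h0, i.isLt⟩]
        have : (⟨(i.rev : ℕ) + 1, by omega⟩ : Fin (2 * N)) =
            (⟨i - 1, by omega⟩ : Fin (2 * N)).rev := Fin.ext (by simp only [Fin.val_rev]; omega)
        rw [this]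
      · rw [dif_neg (by omega : ¬ ((i.rev : Fin (2 * N)) : ℕ) + 1 < 2 * N), dif_neg (by omega)]
        ring
    rw [e1, e2]
    rcases Nat.eq_zero_or_pos (2 * N) with h0 | h0
    · rw [h0]; simp
    obtain ⟨L, hL⟩ : ∃ L, 2 * N = L + 1 := ⟨2 * N - 1, by omega⟩
    rw [hL, Finset.sum_range_succ f1, Finset.sum_range_succ' f2]
    have a1 : f1 L = 0 := dif_neg (by omega)
    have a2 : f2 0 = 0 := dif_neg (by omega)
    rw [a1, a2, add_zero, add_zero, ← Finset.sum_add_distrib]
    refine Finset.sum_eq_zero fun i hi => ?_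
    have := Finset.mem_range.1 hi
    simp only [f1, f2, dif_pos (by omega : i + 1 < 2 * N),
      dif_pos (⟨by omega, by omega⟩ : 0 < i + 1 ∧ i + 1 < 2 * N), Nat.add_sub_cancel]
    rw [pow_succ]; ring
  have hnil : S ^ (2 * N) = 0 := LinearMap.ext fun v => funext fun i => by
    rw [hSpow, dif_neg (by omega)]; rfl
  haveI : Nonempty (Fin (2 * N)) := ⟨⟨0, by omega⟩⟩
  haveI : Nontrivial (Fin (2 * N) → F) := inferInstance
  haveI : CharP (Module.End F (Fin (2 * N) → F)) p :=
    charP_of_injective_algebraMap (algebraMap F (Module.End F (Fin (2 * N) → F))).injective p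
  obtain ⟨W, hW⟩ : IsUnit (1 - S) := IsNilpotent.isUnit_one_sub ⟨_, hnil⟩
  set g : Module.End F (Fin (2 * N) → F) := (1 + S) * ((W⁻¹ : (Module.End F _)ˣ) : Module.End F _)
    with hg
  have hgW : g * (1 - S) = 1 + S := by rw [hg, ← hW, Units.inv_mul_cancel_right]
  have hcomm : Commute (1 + S) (1 - S) :=
    ((Commute.one_left _).add_left ((Commute.one_right S).sub_right (Commute.refl S)))
  have hgc : Commute g (1 - S) := by
    rw [hg]
    exact hcomm.mul_left (by rw [← hW]; exact Commute.units_val (Commute.inv_left (Commute.refl W)))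
  refine ⟨B, g, ?_, ?_, ?_, ?_⟩
  · intro u
    rw [hB]
    have : (2 : F) * ∑ i : Fin (2 * N), (-1) ^ (i : ℕ) * (u i * u i.rev) = 0 := by
      rw [two_mul]
      nth_rewrite 2 [← Equiv.sum_comp Fin.revPerm]
      rw [← Finset.sum_add_distrib]
      refine Finset.sum_eq_zero fun i _ => ?_
      rw [Fin.revPerm_apply, Fin.rev_rev, hrev]; ring
    exact (mul_eq_zero.1 this).resolve_left h2
  · refine ⟨fun u hu => funext fun i => ?_, fun u hu => funext fun i => ?_⟩
    · have := hu (Pi.single i.rev 1)
      rw [hB, Finset.sum_eq_single i] at this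
      · simpa using this
      · intro k _ hk; simp [hk]
      · simp
    · have := hu (Pi.single i.rev 1)
      rw [hB, Finset.sum_eq_single i.rev] at this
      · simpa using this
      · intro k _ hk; simp [hk]
      · simp
  · intro u v
    obtain ⟨u', rfl⟩ : ∃ u', (1 - S) u' = u := ⟨_, by
      rw [← hW, ← Module.End.mul_apply, Units.mul_inv]; rfl⟩
    obtain ⟨v', rfl⟩ : ∃ v', (1 - S) v' = v := ⟨_, by
      rw [← hW, ← Module.End.mul_apply, Units.mul_inv]; rfl⟩
    rw [← Module.End.mul_apply, ← Module.End.mul_apply, hgW]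
    simp only [LinearMap.add_apply, LinearMap.sub_apply, Module.End.one_apply, map_add, map_sub,
      LinearMap.add_apply, LinearMap.sub_apply]
    linear_combination (2 : F) * hskew u' v'
  · have hgp : g ^ p ^ (2 * N) = 1 := by
      have h1 : (g * (1 - S)) ^ p ^ (2 * N) = (1 + S) ^ p ^ (2 * N) := by rw [hgW]
      have h0 : S ^ p ^ (2 * N) = 0 :=
        pow_eq_zero_of_le (Nat.lt_pow_self hp.one_lt).le hnil
      rwa [hgc.mul_pow, sub_pow_char_pow_of_commute _ _ (Commute.one_left _),
        add_pow_char_pow_of_commute _ _ (Commute.one_left _), h0, one_pow, sub_zero, add_zero,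
        mul_one] at h1
    obtain ⟨i, -, hi⟩ := (Nat.dvd_prime_pow hp).1 (orderOf_dvd_of_pow_eq_one hgp)
    refine ⟨i, ?_, hi⟩
    by_contra hle
    have h1 : g ^ p ^ j = 1 :=
      orderOf_dvd_iff_pow_eq_one.1 (hi ▸ pow_dvd_pow p (by omega))
    have h3 : (g * (1 - S)) ^ p ^ j = (1 + S) ^ p ^ j := by rw [hgW]
    rw [hgc.mul_pow, h1, one_mul, sub_pow_char_pow_of_commute _ _ (Commute.one_left _),
      add_pow_char_pow_of_commute _ _ (Commute.one_left _), one_pow] at h3
    have h4 := congrArg (fun q : Module.End F (Fin (2 * N) → F) =>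
      q (Pi.single ⟨p ^ j, hj⟩ 1) ⟨0, by omega⟩) h3
    simp only [LinearMap.sub_apply, LinearMap.add_apply, Pi.sub_apply, Pi.add_apply,
      Module.End.one_apply, hSpow, zero_add, dif_pos hj] at h4
    have hne : (⟨0, by omega⟩ : Fin (2 * N)) ≠ ⟨p ^ j, hj⟩ := by
      intro h; have := congrArg Fin.val h; have := pow_pos hp.pos j; simp only at *; omega
    rw [Pi.single_eq_of_ne hne] at h4
    simp only [Pi.single_eq_same, zero_sub] at h4
    refine h2 ?_
    linear_combination -h4

end Cfsg.Agent.Lib.SpSpec
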