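import Cfsg.Agent.Lib.SpSpec.Field

/-!
Odd order isometries of a symplectic space with no commuting proper involutory isometry.
-/

set_option autoImplicit false

namespace Cfsg.Agent.Lib.SpSpec

open Polynomial

variable {F : Type*} [Field F] {V : Type*} [AddCommGroup V] [Module F V]
  (B : LinearMap.BilinForm F V)

/-- `a'` is adjoint to `a`. -/
def Adj (a a' : Module.End F V) : Prop := ∀ u v, B (a u) v = B u (a' v)

/-- `a` preserves the form. -/
def Isom (a : Module.End F V) : Prop := ∀ u v, B (a u) (a v) = B u v

variable {B}

theorem Adj.mul {a a' b b' : Module.End F V} (ha : Adj B a a') (hb : Adj B b b') :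
    Adj B (a * b) (b' * a') := fun u v => by
  rw [Module.End.mul_apply, Module.End.mul_apply, ha, hb]

theorem Adj.add {a a' b b' : Module.End F V} (ha : Adj B a a') (hb : Adj B b b') :
    Adj B (a + b) (a' + b') := fun u v => by
  rw [LinearMap.add_apply, LinearMap.add_apply, map_add, LinearMap.add_apply, map_add, ha, hb]

theorem adj_one : Adj B 1 1 := fun _ _ => rfl

theorem adj_algebraMap (c : F) :
    Adj B (algebraMap F (Module.End F V) c) (algebraMap F (Module.End F V) c) := fun u v => by
  simp

theorem Adj.neg {a a' : Module.End F V} (ha : Adj B a a') : Adj B (-a) (-a') := fun u v => by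
  rw [LinearMap.neg_apply, LinearMap.neg_apply, map_neg, LinearMap.neg_apply, map_neg, ha]

theorem Adj.sub {a a' b b' : Module.End F V} (ha : Adj B a a') (hb : Adj B b b') :
    Adj B (a - b) (a' - b') := by
  rw [sub_eq_add_neg, sub_eq_add_neg]; exact ha.add hb.neg

theorem Adj.pow {a a' : Module.End F V} (ha : Adj B a a') : ∀ k : ℕ, Adj B (a ^ k) (a' ^ k)
  | 0 => by simpa using adj_one
  | k + 1 => by rw [pow_succ, pow_succ']; exact (ha.pow k).mul ha

theorem Adj.aeval {a a' : Module.End F V} (ha : Adj B a a') (P : F[X]) :
    Adj B (aeval a P) (aeval a' P) := by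
  induction P using Polynomial.induction_on' with
  | add x y hx hy => rw [map_add, map_add]; exact hx.add hy
  | monomial k c =>
    rw [aeval_monomial, aeval_monomial, ← (Algebra.commute_algebraMap_left c (a' ^ k)).symm.eq]
    exact (adj_algebraMap c).mul (ha.pow k)

theorem Adj.unique (hB : B.Nondegenerate) {a x y : Module.End F V} (hx : Adj B a x)
    (hy : Adj B a y) : x = y := by
  refine LinearMap.ext fun v => sub_eq_zero.1 (hB.2 _ fun u => ?_)
  rw [map_sub, ← hx, ← hy, sub_self]

theorem Isom.mul {a b : Module.End F V} (ha : Isom B a) (hb : Isom B b) : Isom B (a * b) :=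
  fun u v => by rw [Module.End.mul_apply, Module.End.mul_apply, ha, hb]

theorem Isom.pow {a : Module.End F V} (ha : Isom B a) : ∀ k : ℕ, Isom B (a ^ k)
  | 0 => fun _ _ => rfl
  | k + 1 => by rw [pow_succ]; exact (ha.pow k).mul ha

theorem Isom.adj {a a' : Module.End F V} (ha : Isom B a) (h : a * a' = 1) : Adj B a a' :=
  fun u v => by
    conv_lhs => rw [show v = a (a' v) from (congrArg (fun x : Module.End F V => x v) h).symm]
    rw [ha]

/-- Splitting by a self adjoint idempotent. -/
theorem exists_invol {g E : Module.End F V} (h2 : (2 : F) ≠ 0)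
    (hadj : Adj B E E) (hid : E * E = E) (h0 : E ≠ 0) (h1 : E ≠ 1) (hc : Commute g E) :
    ∃ J, Isom B J ∧ J * J = 1 ∧ J ≠ 1 ∧ J ≠ -1 ∧ Commute g J := by
  refine ⟨E + E - 1, ?_, ?_, ?_, ?_, (hc.add_right hc).sub_right (Commute.one_right g)⟩
  · have hJ : Adj B (E + E - 1) (E + E - 1) := (hadj.add hadj).sub adj_one
    have hJJ : (E + E - 1) * (E + E - 1) = 1 := by simp only [mul_add, add_mul, mul_sub, sub_mul, hid, mul_one, one_mul]; abel
    intro u v
    rw [hJ, ← Module.End.mul_apply, hJJ]
    rfl
  · simp only [mul_add, add_mul, mul_sub, sub_mul, hid, mul_one, one_mul]; abel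
  · intro h
    refine h1 ?_
    have : (2 : F) • E = (2 : F) • 1 := by rw [two_smul, two_smul, sub_eq_iff_eq_add.1 h]
    exact smul_right_injective _ h2 this
  · intro h
    refine h0 ?_
    have : (2 : F) • E = (2 : F) • 0 := by
      rw [two_smul, smul_zero, sub_eq_iff_eq_add.1 h, neg_add_cancel]
    exact smul_right_injective _ h2 this

variable [Fintype F] [Module.Finite F V]

/-- Structure of an isometry of odd order without commuting proper involution. -/
theorem classify (hB : B.Nondegenerate) (h2 : (2 : F) ≠ 0) {p : ℕ} [Fact p.Prime] [CharP F p]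
    {n : ℕ} (hn : Module.finrank F V = 2 * n) (hn0 : 0 < n)
    {g : Module.End F V} (hg : Isom B g) (hodd : Odd (orderOf g)) :
    (∃ J, Isom B J ∧ J * J = 1 ∧ J ≠ 1 ∧ J ≠ -1 ∧ Commute g J) ∨
    (∃ j, orderOf g = p ^ j ∧ (j = 0 ∨ p ^ (j - 1) < 2 * n)) ∨
    ∃ d e j, orderOf g = p ^ j * e ∧ d ∣ n ∧ 0 < d ∧
      (e ∣ Fintype.card F ^ d - 1 ∨ e ∣ Fintype.card F ^ d + 1) ∧
      (j = 0 ∨ p ^ (j - 1) < n / d) := by
  classical
  have hp : p.Prime := Fact.out
  haveI : Nontrivial V := Module.nontrivial_of_finrank_pos (R := F) (by omega)
  haveI : CharP (Module.End F V) p :=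
    charP_of_injective_algebraMap (algebraMap F (Module.End F V)).injective p
  obtain ⟨j, e, hpe, ha⟩ := Nat.exists_eq_pow_mul_and_not_dvd hodd.pos.ne' p hp.ne_one
  rw [ha] at hodd
  have heodd : Odd e := Nat.Odd.of_mul_right (m := p ^ j) hodd
  set s := g ^ p ^ j with hs_def
  have hg1 : g ^ (p ^ j * e) = 1 := by rw [← ha]; exact pow_orderOf_eq_one g
  have hse : orderOf s = e := by
    rw [hs_def, orderOf_pow' _ (pow_ne_zero _ hp.ne_zero), ha,
      Nat.gcd_eq_right (Dvd.intro e rfl), Nat.mul_div_cancel_left _ (pow_pos hp.pos _)]
  have hse1 : s ^ e = 1 := hse ▸ pow_orderOf_eq_one s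
  set v := g ^ e - 1 with hv_def
  have hvnil : IsNilpotent v := by
    refine ⟨p ^ j, ?_⟩
    rw [hv_def, sub_pow_char_pow_of_commute _ _ (Commute.one_right _), ← pow_mul, mul_comm e, hg1,
      one_pow, sub_self]
  have hvs : Commute v s := (((Commute.refl g).pow_pow e (p ^ j))).sub_left (Commute.one_left _)
  have hMv : ∀ M, j ≠ 0 → v ^ M = 0 → p ^ (j - 1) < M := by
    intro M hj hv
    by_contra hle
    have h0 : v ^ p ^ (j - 1) = 0 := pow_eq_zero_of_le (by omega) hv
    rw [hv_def, sub_pow_char_pow_of_commute _ _ (Commute.one_right _), one_pow, sub_eq_zero,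
      ← pow_mul] at h0
    have h4 := orderOf_dvd_of_pow_eq_one h0
    rw [ha, mul_comm e] at h4
    have h5 := Nat.dvd_of_mul_dvd_mul_right heodd.pos h4
    rw [Nat.pow_dvd_pow_iff_le_right hp.one_lt] at h5
    omega
  have hadjk : ∀ k, Adj B (g ^ k) (g ^ (k * (orderOf g - 1))) := fun k =>
    (hg.pow k).adj (by
      rw [← pow_add]
      rw [show k + k * (orderOf g - 1) = orderOf g * k by
        have : orderOf g = (orderOf g - 1) + 1 := by have := hodd.pos; omega
        conv_rhs => rw [this, add_mul, one_mul, mul_comm, add_comm]]
      rw [pow_mul, pow_orderOf_eq_one, one_pow])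
  set s' := g ^ (p ^ j * (orderOf g - 1)) with hs'_def
  have hadj : Adj B s s' := hadjk _
  have hss' : s * s' = 1 := by
    rw [hs_def, hs'_def, ← pow_add, show p ^ j + p ^ j * (orderOf g - 1) = orderOf g * p ^ j by
      have : orderOf g = (orderOf g - 1) + 1 := by rw [ha]; have := hodd.pos; omega
      conv_rhs => rw [this, add_mul, one_mul, mul_comm, add_comm]]
    rw [pow_mul, pow_orderOf_eq_one, one_pow]
  have hs'e : s' = s ^ (e - 1) := by
    calc s' = s ^ (e - 1 + 1) * s' := by rw [Nat.sub_add_cancel heodd.pos, hse1, one_mul]
      _ = _ := by rw [pow_succ, mul_assoc, hss', mul_one]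
  set h := minpoly F s with hh_def
  have hint : IsIntegral F s := Algebra.IsIntegral.isIntegral s
  have hh0 : aeval s h = 0 := minpoly.aeval F s
  have hh0' : aeval s' h = 0 := by
    refine (hadj.aeval h).unique hB ?_
    rw [hh0]; intro u w; simp
  have hsep : Squarefree h := by
    refine Squarefree.squarefree_of_dvd (minpoly.dvd F s (p := X ^ e - 1) (by simp [hse1])) ?_
    refine (X_pow_sub_one_separable_iff.2 ?_).squarefree
    rw [Ne, CharP.cast_eq_zero_iff F p]; exact hpe
  by_cases hirr : Irreducible h
  · haveI : Fact (Irreducible h) := ⟨hirr⟩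
    obtain ⟨hdiv, hpow, hnilp⟩ := field_facts s hirr hh0
    let φ : AdjoinRoot h →ₐ[F] Module.End F V :=
      Ideal.Quotient.liftₐ (Ideal.span {h}) (aeval s) (fun a ha => by
        obtain ⟨b, rfl⟩ := Ideal.mem_span_singleton'.1 ha
        rw [map_mul, hh0, mul_zero])
    have hφ : φ (AdjoinRoot.root h) = s := aeval_X s
    have hφi : Function.Injective φ := φ.toRingHom.injective
    have hpw : AdjoinRoot.root h ^ e = 1 := hφi (by rw [map_pow, hφ, hse1, map_one])
    by_cases hone : AdjoinRoot.root h = 1
    · have hs1 : s = 1 := by rw [← hφ, hone, map_one]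
      have he1 : e = 1 := by rw [← hse, hs1, orderOf_one]
      refine Or.inr (Or.inl ⟨j, by rw [ha, he1, mul_one], ?_⟩)
      rcases Nat.eq_zero_or_pos j with hj | hj
      · exact Or.inl hj
      · refine Or.inr (hMv _ hj.ne' ?_)
        obtain ⟨k, hk⟩ := hvnil
        have := v.aeval_self_charpoly
        rwa [(LinearMap.charpoly_eq_X_pow_iff v).2 fun w => ⟨k, by rw [hk]; rfl⟩, aeval_X_pow,
          hn] at this
    · have hinv : aeval (AdjoinRoot.root h)⁻¹ h = 0 := by
        refine hφi ?_
        have : (AdjoinRoot.root h)⁻¹ = AdjoinRoot.root h ^ (e - 1) :=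
          (eq_inv_of_mul_eq_one_left (by rw [← pow_succ, Nat.sub_add_cancel heodd.pos, hpw])).symm
        rw [this, ← aeval_algHom_apply, map_pow, hφ, ← hs'e, hh0', map_zero]
      obtain ⟨d, hd, hd1⟩ := norm_one_of_inverse_root hirr heodd hpw hone hinv
      have hd0 : 0 < d := by have := hirr.natDegree_pos; omega
      have hdn : d ∣ n := by
        rw [hn, hd] at hdiv
        exact Nat.dvd_of_mul_dvd_mul_left two_pos hdiv
      refine Or.inr (Or.inr ⟨d, e, j, ha, hdn, hd0, Or.inr ?_, ?_⟩)
      · rw [← hse]
        refine orderOf_dvd_of_pow_eq_one ?_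
        rw [← hφ, ← map_pow, hd1, map_one]
      · rcases Nat.eq_zero_or_pos j with hj | hj
        · exact Or.inl hj
        · refine Or.inr (hMv _ hj.ne' ?_)
          have := hnilp v hvs hvnil
          rwa [hn, hd, Nat.mul_div_mul_left _ _ two_pos] at this
  · have hhne : h ≠ 0 := minpoly.ne_zero hint
    have hhu : ¬ IsUnit h := minpoly.not_isUnit F s
    obtain ⟨f, hf, k, hfk⟩ := WfDvdMonoid.exists_irreducible_factor hhu hhne
    have hku : ¬ IsUnit k := fun hu => hirr (hfk ▸ (irreducible_mul_isUnit hu).2 hf)
    have hcop : IsCoprime f k := (hf.coprime_iff_not_dvd).2 fun hd => by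
      obtain ⟨c, hc⟩ := hd
      exact hf.not_isUnit (hsep f ⟨c, by rw [hfk, hc, mul_assoc]⟩)
    obtain ⟨b, c, hbc⟩ := hcop
    set P := aeval s (c * k) with hP_def
    set R := aeval s' (c * k) with hR_def
    have hck : (c * k) * (c * k) - c * k = -(b * c) * h := by
      have : c * k = 1 - b * f := eq_sub_of_add_eq' hbc
      calc (c * k) * (c * k) - c * k = (c * k) * ((1 - b * f) - 1) := by rw [← this]; ring
        _ = _ := by rw [hfk]; ring
    have hPP : P * P = P := by
      refine sub_eq_zero.1 ?_
      rw [hP_def, ← map_mul, ← map_sub, hck, map_mul, hh0, mul_zero]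
    have hRR : R * R = R := by
      refine sub_eq_zero.1 ?_
      rw [hR_def, ← map_mul, ← map_sub, hck, map_mul, hh0', mul_zero]
    have hPR : Commute P R := by
      rw [hP_def, hR_def, hs'e, ← aeval_X_pow (R := F) (x := s) (n := e - 1), ← aeval_comp]
      exact (Commute.all (c * k) _).map (aeval s)
    have hadjP : Adj B P R := hadj.aeval _
    have hadjR : Adj B R P := by
      have h1 : Adj B s' s := by
        rw [hs'_def, hs_def]
        intro u w
        conv_lhs => rw [show w = s' (s w) from by
          rw [← Module.End.mul_apply, hs'e, ← pow_succ, Nat.sub_add_cancel heodd.pos, hse1]; rfl]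
        rw [hs'_def]
        exact (hg.pow _) _ _
      exact h1.aeval _
    have hgP : ∀ q : F[X], Commute g (aeval s q) := fun q => by
      induction q using Polynomial.induction_on' with
      | add x y hx hy => rw [map_add]; exact hx.add_right hy
      | monomial i r =>
        rw [aeval_monomial]
        exact Commute.mul_right (Algebra.commutes r g).symm (((Commute.refl g).pow_right _).pow_right i)
    have hgR : Commute g R := by
      rw [hR_def, hs'e, ← aeval_X_pow (R := F) (x := s) (n := e - 1), ← aeval_comp]
      exact hgP _
    have hf0 : aeval s f ≠ 0 := by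
      intro h0
      have hdvd := minpoly.dvd F s h0
      rw [← hh_def, hfk] at hdvd
      exact hku (isUnit_of_dvd_one ((mul_dvd_mul_iff_left hf.ne_zero).1 (by rwa [mul_one])))
    have hk0 : aeval s k ≠ 0 := by
      intro h0
      have hdvd := minpoly.dvd F s h0
      rw [← hh_def, hfk] at hdvd
      have hk0 : k ≠ 0 := fun e => hhne (by rw [hfk, e, mul_zero])
      exact hf.not_isUnit (isUnit_of_dvd_one ((mul_dvd_mul_iff_right hk0).1 (by rwa [one_mul])))
    have hfP : aeval s f * P = 0 := by
      rw [hP_def, ← map_mul, show f * (c * k) = c * h by rw [hfk]; ring, map_mul, hh0, mul_zero]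
    have hP1 : P ≠ 1 := fun h1 => hf0 (by rw [← hfP, h1, mul_one])
    have hP0 : P ≠ 0 := by
      intro h0
      refine hk0 ?_
      have : aeval s k * P = aeval s k := by
        refine sub_eq_zero.1 ?_
        rw [hP_def, ← map_mul, ← map_sub, show k * (c * k) - k = -b * h by
          rw [hfk]; linear_combination k * hbc, map_mul, hh0, mul_zero]
      rw [← this, h0, mul_zero]
    by_cases hE : P * R = 0
    · have hRP : R * P = 0 := by rw [← hPR.eq, hE]
      by_cases hY : P + R = 1
      · have hsP : ∀ w ∈ LinearMap.range P, s w ∈ LinearMap.range P := by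
          rintro w ⟨x, rfl⟩
          refine ⟨s x, ?_⟩
          rw [← Module.End.mul_apply, ← Module.End.mul_apply]
          exact congrArg (fun q : Module.End F V => q x) ((hgP (c * k)).pow_left (p ^ j)).eq.symm
        have hvP : ∀ w ∈ LinearMap.range P, v w ∈ LinearMap.range P := by
          rintro w ⟨x, rfl⟩
          refine ⟨v x, ?_⟩
          rw [← Module.End.mul_apply, ← Module.End.mul_apply]
          exact congrArg (fun q : Module.End F V => q x)
            ((((hgP (c * k)).pow_left e).sub_left (Commute.one_left _)).eq.symm)
        have hPfix : ∀ w ∈ LinearMap.range P, P w = w := by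
          rintro w ⟨x, rfl⟩; rw [← Module.End.mul_apply, hPP]
        have hker : LinearMap.ker P = LinearMap.range R := by
          apply le_antisymm
          · intro w hw
            rw [LinearMap.mem_ker] at hw
            refine ⟨w, ?_⟩
            have := congrArg (fun q : Module.End F V => q w) hY
            simpa [hw] using this
          · rintro w ⟨x, rfl⟩
            rw [LinearMap.mem_ker, ← Module.End.mul_apply, hE]; rfl
        have hle : ∀ {P R : Module.End F V}, Adj B R P → R * P = 0 → P * P = P → P + R = 1 →
            Module.finrank F (LinearMap.range P) ≤ Module.finrank F (LinearMap.range R) := by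
          intro P R hadjR hRP hPP hY
          let Φ : LinearMap.range P →ₗ[F] Module.Dual F (LinearMap.range R) :=
            (LinearMap.range R).subtype.dualMap ∘ₗ B ∘ₗ (LinearMap.range P).subtype
          have hinj : Function.Injective Φ := by
            rw [← LinearMap.ker_eq_bot, LinearMap.ker_eq_bot']
            rintro ⟨w, x, rfl⟩ hw
            refine Subtype.ext (hB.1 _ fun y => ?_)
            have hy : y = P y + R y := by rw [← LinearMap.add_apply, hY]; rfl
            rw [hy, map_add]
            have e1 : B (P x) (R y) = 0 := by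
              have := congrArg (fun φ : Module.Dual F (LinearMap.range R) => φ ⟨R y, y, rfl⟩) hw
              simpa [Φ] using this
            rw [e1, add_zero, ← hadjR, ← Module.End.mul_apply, hRP]
            simp
          exact (LinearMap.finrank_le_finrank_of_injective hinj).trans
            Subspace.dual_finrank_eq.le
        have hW : Module.finrank F (LinearMap.range P) = n := by
          have h1 := hle hadjR hRP hPP hY
          have h2 := hle hadjP hE hRR (by rw [add_comm]; exact hY)
          have h3 := P.finrank_range_add_finrank_ker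
          rw [hker, hn] at h3
          omega
        have hfW : aeval (s.restrict hsP) f = 0 := by
          have hev : ∀ (q : F[X]) (w : LinearMap.range P),
              ((aeval (s.restrict hsP) q w : LinearMap.range P) : V) = aeval s q (w : V) := by
            intro q
            induction q using Polynomial.induction_on' with
            | add x y hx hy => intro w; simp [hx, hy]
            | monomial i r =>
              intro w
              simp only [aeval_monomial, Module.algebraMap_end_eq_smul_id, Module.End.mul_apply,
                LinearMap.smul_apply, LinearMap.id_coe, id_eq, Submodule.coe_smul]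
              congr 1
              induction i generalizing w with
              | zero => rfl
              | succ i ih => rw [pow_succ, pow_succ, Module.End.mul_apply, Module.End.mul_apply, ih]; rfl
          refine LinearMap.ext fun w => Subtype.ext ?_
          rw [hev, ← hPfix _ w.2, ← Module.End.mul_apply, hfP]
          rfl
        obtain ⟨hdiv, hpow, hnilp⟩ := field_facts (s.restrict hsP) hf hfW
        rw [hW] at hdiv hnilp
        have hrest : ∀ (q : Module.End F V) (hq : ∀ w ∈ LinearMap.range P, q w ∈ LinearMap.range P)
            (i : ℕ) (w : LinearMap.range P),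
            (((q.restrict hq) ^ i) w : V) = (q ^ i) (w : V) := by
          intro q hq i
          induction i with
          | zero => intro w; rfl
          | succ i ih => intro w; rw [pow_succ, pow_succ, Module.End.mul_apply, Module.End.mul_apply, ih]; rfl
        have hdual : ∀ i, g ^ i * P = P → g ^ i = 1 := by
          intro i hi
          have h3 : Adj B (g ^ i * P) (R * g ^ (i * (orderOf g - 1))) := (hadjk i).mul hadjP |> fun h => by
            have := h; exact this
          rw [hi] at h3
          have h4 : R * g ^ (i * (orderOf g - 1)) = R := h3.unique hB hadjP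
          have h5 : g ^ i * R = R := by
            conv_rhs => rw [← mul_one R]
            rw [show (1 : Module.End F V) = g ^ (i * (orderOf g - 1)) * g ^ i by
              rw [← pow_add, show i * (orderOf g - 1) + i = orderOf g * i by
                have : orderOf g = (orderOf g - 1) + 1 := by rw [ha]; have := hodd.pos; omega
                conv_rhs => rw [this, add_mul, one_mul, mul_comm],
                pow_mul, pow_orderOf_eq_one, one_pow], ← mul_assoc, h4]
            exact (hgR.pow_left i).eq
          rw [← mul_one (g ^ i), ← hY, mul_add, hi, h5]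
        refine Or.inr (Or.inr ⟨f.natDegree, e, j, ha, hdiv, hf.natDegree_pos, Or.inl ?_, ?_⟩)
        · rw [← hse]
          refine orderOf_dvd_of_pow_eq_one ?_
          have hs0 : s.restrict hsP ≠ 0 := by
            intro h0
            refine hP0 (LinearMap.ext fun x => ?_)
            have := congrArg (fun q : Module.End F (LinearMap.range P) =>
              ((q ⟨P x, x, rfl⟩ : LinearMap.range P) : V)) h0
            have h6 : s (P x) = 0 := by simpa using this
            calc P x = (s' * s) (P x) := by
                  rw [hs'e, ← pow_succ, Nat.sub_add_cancel heodd.pos, hse1]; rfl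
              _ = 0 := by rw [Module.End.mul_apply, h6, map_zero]
          have h7 := hpow hs0
          rw [hs_def, ← pow_mul]
          refine hdual _ (LinearMap.ext fun x => ?_)
          rw [Module.End.mul_apply, pow_mul, ← hs_def, ← hrest s hsP _ ⟨P x, x, rfl⟩, h7]
          rfl
        · rcases Nat.eq_zero_or_pos j with hj | hj
          · exact Or.inl hj
          · refine Or.inr ?_
            by_contra hlt
            have hnilW : IsNilpotent (v.restrict hvP) := by
              obtain ⟨i, hi⟩ := hvnil
              exact ⟨i, LinearMap.ext fun w => Subtype.ext (by rw [hrest, hi]; rfl)⟩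
            have hcW : Commute (v.restrict hvP) (s.restrict hsP) :=
              LinearMap.ext fun w => Subtype.ext (congrArg (fun q : Module.End F V => q w) hvs.eq)
            have h8 := pow_eq_zero_of_le (Nat.le_of_not_lt hlt) (hnilp _ hcW hnilW)
            have h9 : v ^ p ^ (j - 1) * P = 0 := LinearMap.ext fun x => by
              rw [Module.End.mul_apply, ← hrest v hvP _ ⟨P x, x, rfl⟩, h8]; rfl
            rw [hv_def, sub_pow_char_pow_of_commute _ _ (Commute.one_right _), one_pow, sub_mul,
              one_mul, sub_eq_zero, ← pow_mul] at h9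
            have h4 := orderOf_dvd_of_pow_eq_one (hdual _ h9)
            rw [ha, mul_comm e] at h4
            have h5 := Nat.dvd_of_mul_dvd_mul_right heodd.pos h4
            rw [Nat.pow_dvd_pow_iff_le_right hp.one_lt] at h5
            omega
      · refine Or.inl (exists_invol h2 (by have := hadjP.add hadjR; rwa [add_comm R P] at this)
          ?_ ?_ hY ((hgP _).add_right hgR))
        · rw [mul_add, add_mul, add_mul, hPP, hRR, hE, hRP, add_zero, zero_add]
        · intro h0
          refine hP0 ?_
          have := congrArg (P * ·) h0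
          simpa [mul_add, hPP, hE] using this
    · refine Or.inl (exists_invol h2 ?_ ?_ hE ?_ ((hgP _).mul_right hgR))
      · exact hadjP.mul hadjR
      · calc P * R * (P * R) = P * (R * P) * R := by simp only [mul_assoc]
          _ = P * P * (R * R) := by rw [← hPR.eq]; simp only [mul_assoc]
          _ = _ := by rw [hPP, hRR]
      · intro h1
        refine hP1 ?_
        calc P = P * (P * R) := by rw [h1, mul_one]
          _ = _ := by rw [← mul_assoc, hPP, h1]

end Cfsg.Agent.Lib.SpSpec
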