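import Mathlib

/-!
Endomorphisms with irreducible minimal polynomial over a finite field.
-/

set_option autoImplicit false

namespace Cfsg.Agent.Lib.SpSpec

open Polynomial

variable {F : Type*} [Field F] [Fintype F] {W : Type*} [AddCommGroup W] [Module F W]
  [Module.Finite F W]

theorem finite_adjoinRoot {f : F[X]} (hf : f ≠ 0) : Finite (AdjoinRoot f) :=
  haveI : Module.Finite F (AdjoinRoot f) := Module.Finite.of_basis (AdjoinRoot.powerBasis hf).basis
  Module.finite_of_finite F

theorem natCard_adjoinRoot {f : F[X]} (hf : f ≠ 0) :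
    Nat.card (AdjoinRoot f) = Fintype.card F ^ f.natDegree := by
  haveI : Module.Finite F (AdjoinRoot f) := Module.Finite.of_basis (AdjoinRoot.powerBasis hf).basis
  rw [Module.natCard_eq_pow_finrank (K := F), (AdjoinRoot.powerBasis hf).finrank,
    AdjoinRoot.powerBasis_dim, Nat.card_eq_fintype_card]

/-- The data of an endomorphism with irreducible minimal polynomial. -/
theorem field_facts (t : Module.End F W) {f : F[X]} (hf : Irreducible f) (ht : aeval t f = 0) :
    f.natDegree ∣ Module.finrank F W ∧
    (t ≠ 0 → t ^ (Fintype.card F ^ f.natDegree - 1) = 1) ∧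
    ∀ v : Module.End F W, Commute v t → IsNilpotent v →
      v ^ (Module.finrank F W / f.natDegree) = 0 := by
  haveI : Fact (Irreducible f) := ⟨hf⟩
  haveI := finite_adjoinRoot hf.ne_zero
  let φ : AdjoinRoot f →ₐ[F] Module.End F W :=
    Ideal.Quotient.liftₐ (Ideal.span {f}) (aeval t) (fun a ha => by
      obtain ⟨b, rfl⟩ := Ideal.mem_span_singleton'.1 ha
      rw [map_mul, ht, mul_zero])
  letI : Module (AdjoinRoot f) W := Module.compHom W φ.toRingHom
  have hsmul : ∀ (a : AdjoinRoot f) (w : W), a • w = φ a w := fun _ _ => rfl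
  haveI : IsScalarTower F (AdjoinRoot f) W := ⟨fun c a w => by
    rw [hsmul, hsmul, map_smul]; rfl⟩
  haveI : Module.Finite (AdjoinRoot f) W := Module.Finite.of_restrictScalars_finite F _ W
  have hd : Module.finrank F (AdjoinRoot f) = f.natDegree := by
    rw [(AdjoinRoot.powerBasis hf.ne_zero).finrank, AdjoinRoot.powerBasis_dim]
  have hmul : f.natDegree * Module.finrank (AdjoinRoot f) W = Module.finrank F W := by
    rw [← hd]; exact Module.finrank_mul_finrank F (AdjoinRoot f) W
  have hroot : φ (AdjoinRoot.root f) = t := aeval_X t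
  refine ⟨⟨_, hmul.symm⟩, fun h0 => ?_, fun v hv hnil => ?_⟩
  · haveI := Fintype.ofFinite (AdjoinRoot f)
    have hr : AdjoinRoot.root f ≠ 0 := fun e => h0 (by rw [← hroot, e, map_zero])
    have := FiniteField.pow_card_sub_one_eq_one _ hr
    rw [← Nat.card_eq_fintype_card, natCard_adjoinRoot hf.ne_zero] at this
    rw [← hroot, ← map_pow, this, map_one]
  · have hcomm : ∀ a, Commute v (φ a) := by
      intro a
      induction a using AdjoinRoot.induction_on with
      | _ g =>
        rw [show φ (AdjoinRoot.mk f g) = aeval t g from rfl]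
        induction g using Polynomial.induction_on' with
        | add x y hx hy => rw [map_add]; exact Commute.add_right hx hy
        | monomial k c =>
          rw [aeval_monomial]
          exact Commute.mul_right (Algebra.commutes c v).symm (hv.pow_right k)
    let v' : Module.End (AdjoinRoot f) W :=
      { toFun := v
        map_add' := v.map_add
        map_smul' := fun a w => by
          have := congrArg (fun h : Module.End F W => h w) (hcomm a).eq
          simpa [hsmul] using this }
    have hpow : ∀ (k : ℕ) (w : W), (v' ^ k) w = (v ^ k) w := by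
      intro k
      induction k with
      | zero => intro w; rfl
      | succ k ih => intro w; rw [pow_succ', pow_succ', Module.End.mul_apply, Module.End.mul_apply, ih]; rfl
    have hnil' : IsNilpotent v' := by
      obtain ⟨k, hk⟩ := hnil
      exact ⟨k, LinearMap.ext fun w => by rw [hpow, hk]; rfl⟩
    have h := v'.aeval_self_charpoly
    rw [(LinearMap.charpoly_eq_X_pow_iff v').2 fun w => by
      obtain ⟨k, hk⟩ := hnil'
      exact ⟨k, by rw [hk]; rfl⟩, aeval_X_pow] at h
    have hk : Module.finrank F W / f.natDegree = Module.finrank (AdjoinRoot f) W := by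
      rw [← hmul, Nat.mul_div_cancel_left _ hf.natDegree_pos]
    rw [hk]
    exact LinearMap.ext fun w => by rw [← hpow, h]; rfl

/-- A root whose inverse is again a root satisfies a norm one condition. -/
theorem norm_one_of_inverse_root {f : F[X]} (hf : Irreducible f) {e : ℕ} (he : Odd e)
    [Fact (Irreducible f)]
    (hpow : AdjoinRoot.root f ^ e = 1) (h1 : AdjoinRoot.root f ≠ 1)
    (hinv : aeval (AdjoinRoot.root f)⁻¹ f = 0) :
    ∃ d, f.natDegree = 2 * d ∧ AdjoinRoot.root f ^ (Fintype.card F ^ d + 1) = 1 := by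
  haveI := finite_adjoinRoot hf.ne_zero
  haveI : Module.Finite F (AdjoinRoot f) :=
    Module.Finite.of_basis (AdjoinRoot.powerBasis hf.ne_zero).basis
  set ζ := AdjoinRoot.root f
  let φ : AdjoinRoot f →ₐ[F] AdjoinRoot f :=
    AdjoinRoot.liftAlgHom f (Algebra.ofId F _) ζ⁻¹ hinv
  have hφ : φ ζ = ζ⁻¹ := AdjoinRoot.liftAlgHom_root _ _ _ _
  obtain ⟨i, hi⟩ := (FiniteField.bijective_frobeniusAlgHom_pow F (AdjoinRoot f)).2 φ
  have happ : ∀ (k : ℕ) (x : AdjoinRoot f),
      ((FiniteField.frobeniusAlgHom F (AdjoinRoot f)) ^ k) x = x ^ Fintype.card F ^ k := by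
    intro k
    induction k with
    | zero => intro x; simp
    | succ k ih =>
      intro x
      rw [pow_succ', AlgHom.mul_apply, ih, pow_succ]
      show (x ^ Fintype.card F ^ k) ^ Fintype.card F = _
      rw [← pow_mul]
  have hζi : ζ ^ Fintype.card F ^ (i : ℕ) = ζ⁻¹ := by
    rw [← happ, ← hφ]
    exact congrArg (fun g : AdjoinRoot f →ₐ[F] AdjoinRoot f => g ζ) hi
  have hd : Module.finrank F (AdjoinRoot f) = f.natDegree := by
    rw [(AdjoinRoot.powerBasis hf.ne_zero).finrank, AdjoinRoot.powerBasis_dim]
  have hilt : (i : ℕ) < f.natDegree := hd ▸ i.isLt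
  have hipos : 0 < (i : ℕ) := by
    by_contra h
    rw [Nat.eq_zero_of_not_pos h, pow_zero, pow_one] at hζi
    have h0 : ζ ≠ 0 := fun e0 => by rw [e0, zero_pow he.pos.ne'] at hpow; exact zero_ne_one hpow
    have h2 : ζ ^ 2 = 1 := by rw [pow_two]; nth_rewrite 2 [hζi]; exact mul_inv_cancel₀ h0
    obtain ⟨k, hk⟩ := he
    rw [hk, pow_succ, pow_mul, h2, one_pow, one_mul] at hpow
    exact h1 hpow
  have h2i : (FiniteField.frobeniusAlgHom F (AdjoinRoot f)) ^ (2 * (i : ℕ)) = 1 := by
    apply AdjoinRoot.algHom_ext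
    rw [happ, two_mul, pow_add, pow_mul, hζi, inv_pow, hζi, inv_inv]
    rfl
  have hord : f.natDegree ∣ 2 * (i : ℕ) := by
    have := orderOf_dvd_of_pow_eq_one h2i
    simp only [FiniteField.orderOf_frobeniusAlgHom] at this
    exact hd.symm.dvd.trans this
  refine ⟨i, ?_, ?_⟩
  · obtain ⟨k, hk⟩ := hord
    rcases k with _ | _ | k
    · omega
    · omega
    · exfalso
      have : f.natDegree * 2 ≤ f.natDegree * (k + 1 + 1) := Nat.mul_le_mul_left _ (by omega)
      omega
  · rw [pow_succ, hζi]
    exact inv_mul_cancel₀ fun e0 => by rw [e0, zero_pow he.pos.ne'] at hpow; exact zero_ne_one hpow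

end Cfsg.Agent.Lib.SpSpec
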